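import Cfsg.Agent.H7.AschCode3

set_option autoImplicit false
set_option linter.unusedSectionVars false
set_option linter.unusedVariables false
set_option linter.unnecessarySimpa false
set_option linter.style.haveILetI false
set_option linter.unusedSimpArgs false

/-! Small exceptions for `SU_5`. -/

namespace Cfsg.Agent.H7

open Cfsg Cfsg.Geo Matrix
open scoped MatrixGroups Kronecker commutatorElement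

variable {ι : Type} [Fintype ι] [DecidableEq ι] {F : Type*} [Field F]

/-- an invariant set of points -/
def L52 : List (ℕ × List ℕ) := [(3, [0, 0, 0, 1, 1]), (3, [0, 0, 0, 1, 2]), (2, [0, 0, 1, 0, 1]), (2, [0, 0, 1, 0, 2]), (1, [0, 1, 0, 0, 3]), (1, [0, 1, 0, 1, 0]), (1, [0, 1, 1, 0, 0]), (1, [0, 1, 1, 1, 1]), (1, [0, 1, 1, 1, 2]), (1, [0, 1, 1, 2, 3]), (1, [0, 1, 1, 3, 1]), (1, [0, 1, 2, 1, 2]), (1, [0, 1, 2, 3, 1]), (1, [0, 1, 2, 3, 2]), (1, [0, 1, 3, 1, 3]), (0, [1, 0, 0, 0, 3]), (0, [1, 0, 0, 1, 0]), (0, [1, 0, 1, 0, 0]), (0, [1, 0, 1, 1, 1]), (0, [1, 0, 1, 1, 2]), (0, [1, 0, 1, 2, 2]), (0, [1, 0, 1, 3, 3]), (0, [1, 0, 2, 1, 3]), (0, [1, 0, 3, 1, 1]), (0, [1, 0, 3, 2, 1]), (0, [1, 0, 3, 2, 2]), (0, [1, 1, 0, 1, 3]), (0, [1, 1, 1, 0, 3]), (0, [1, 1, 1, 1, 0]), (0, [1, 1, 2, 2, 0]), (0, [1, 1,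 2, 3, 0]), (0, [1, 1, 3, 2, 0]), (0, [1, 1, 3, 3, 0]), (0, [1, 2, 0, 0, 0]), (0, [1, 2, 0, 1, 1]), (0, [1, 2, 0, 1, 2]), (0, [1, 2, 0, 2, 2]), (0, [1, 2, 0, 2, 3]), (0, [1, 2, 0, 3, 1]), (0, [1, 2, 0, 3, 3]), (0, [1, 2, 1, 0, 1]), (0, [1, 2, 1, 0, 3]), (0, [1, 2, 2, 0, 1]), (0, [1, 2, 2, 0, 3]), (0, [1, 3, 0, 0, 0]), (0, [1, 3, 0, 1, 2]), (0, [1, 3, 0, 1, 3]), (0, [1, 3, 0, 3, 2]), (0, [1, 3, 0, 3, 3]), (0, [1, 3, 1, 0, 1]), (0, [1, 3, 1, 0, 2]), (0, [1, 3, 2, 0, 2]), (0, [1, 3, 2, 0, 3]), (0, [1, 3, 3, 0, 1]), (0, [1, 3, 3, 0, 3])]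

/-- inverses -/
def TI52 : ℕ := 68640

/-- its bit table -/
def TB52 : ℕ := 1362161011257446272009701829856673506328409174759101253115201134133223333196967310698841928766869446676884987048593627286905453550473925809078625666998457171810309404912815090252327946118904417197420817423250274929454800185343899916823771083157446624973661199043176103930010224231050980946485760

lemma tab52 : K4.tabOK 5 TB52 L52 = true := by decide +kernel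

lemma sing52 : K4.allSing 1 5 [[1, 0, 2, 1, 0], [2, 2, 1, 1, 2], [2, 3, 3, 0, 0], [3, 0, 1, 0, 1], [3, 2, 3, 1, 2]] [[[1, 0, 2, 1, 0], [2, 2, 1, 1, 2], [2, 3, 3, 0, 0], [3, 0, 1, 0, 1], [3, 2, 3, 1, 2]], [[0, 1, 0, 1, 1], [1, 2, 1, 3, 1], [0, 2, 3, 0, 2], [2, 2, 2, 1, 3], [3, 2, 0, 0, 2]], [[2, 0, 3, 0, 1], [1, 2, 3, 2, 2], [3, 2, 1, 0, 0], [3, 3, 3, 3, 3], [1, 0, 2, 3, 0]], [[0, 0, 2, 3, 2], [3, 2, 1, 1, 2], [2, 0, 0, 1, 3], [3, 2, 1, 3, 3], [0, 1, 0, 1, 3]], [[1, 1, 3, 3, 2], [1, 2, 2, 1, 3], [3, 3, 3, 1, 1], [1, 3, 1, 3, 2], [1, 1, 1, 3, 1]]] [1, 0, 0, 0, 0] [[1, 0, 3, 0, 0], [0, 0, 0, 1, 3], [0, 3, 3, 3, 3], [0, 0, 3, 0, 2], [0, 2, 0, 1, 0]]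
    (K4.presF TI52 TB52 L52) = true := by decide +kernel

lemma su52_singer [Fintype F] {q : ℕ} (hF : Fintype.card F = q ^ 2) {σ : F →+* F}
    (hσ : ∀ x, σ x = x ^ q) {f : (ι → F) → (ι → F) → F} (hf : HForm σ 1 f) {H : Subgroup (GL ι F)}
    (hq : q = 2) (hn : Fintype.card ι = 5) (hH : IsMaximalIn (SUf f) H)
    {K : Subalgebra F (Matrix ι ι F)} (hK : IsFieldSubalgebra 5 K) (hadj : IsAdjointClosedFor f K)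
    (h : H ≤ subalgebraNormalizer K) : False := by
  subst hq
  obtain ⟨d, hd⟩ := exists_sound4 hF hσ
  exact hd.singer_false hF hσ hf hH (hd.neg_one (m1 := 1) (by decide +kernel)) hn (by decide) hK hadj
    h (l := 11) (by norm_num) (by norm_num) (by norm_num) (by decide +kernel)
    (Cs := [[[1, 0, 0, 0, 0], [0, 1, 0, 0, 0], [0, 0, 1, 0, 0], [0, 0, 0, 1, 0], [0, 0, 0, 0, 1]], [[1, 0, 2, 1, 0], [2, 2, 1, 1, 2], [2, 3, 3, 0, 0], [3, 0, 1, 0, 1], [3, 2, 3, 1, 2]], [[1, 1, 2, 1, 1], [1, 3, 2, 2, 1], [2, 3, 2, 1, 1], [2, 1, 1, 2, 2], [3, 2, 1, 3, 1]], [[0, 1, 0, 1, 1], [1, 2, 1, 3, 1], [0, 2, 3, 0, 2], [2, 2, 2, 1, 3], [3, 2, 0, 0, 2]], [[2, 0, 3, 0, 1], [1, 2, 3, 2, 2], [3, 2, 1, 0, 0], [3, 3, 3, 3, 3], [1, 0, 2, 3, 0]], [[0, 0, 2, 3, 2], [3, 2, 1, 1, 2], [2, 0, 0, 1, 3], [3, 2, 1, 3, 3], [0, 1, 0,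 1, 3]], [[0, 2, 3, 2, 0], [0, 3, 0, 3, 1], [3, 1, 0, 1, 0], [2, 1, 1, 2, 1], [3, 3, 2, 2, 2]], [[3, 1, 2, 2, 1], [0, 3, 3, 2, 0], [2, 2, 1, 2, 3], [0, 3, 0, 2, 2], [1, 3, 0, 2, 0]], [[0, 1, 0, 3, 2], [1, 3, 3, 3, 3], [0, 1, 2, 3, 0], [1, 2, 0, 1, 0], [1, 1, 3, 2, 3]], [[1, 1, 3, 3, 2], [1, 2, 2, 1, 3], [3, 3, 3, 1, 1], [1, 3, 1, 3, 2], [1, 1, 1, 3, 1]], [[1, 3, 3, 2, 2], [0, 3, 2, 0, 3], [3, 1, 2, 1, 2], [1, 1, 0, 0, 1], [0, 3, 0, 1, 3]]])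
    (by decide +kernel) sing52 tab52 (A := [[0, 3, 2, 0, 3], [2, 0, 3, 0, 1], [3, 2, 1, 0, 0], [0, 0, 0, 1, 0], [2, 1, 0, 0, 1]]) (B := [[0, 0, 3, 0, 0], [2, 0, 0, 1, 2], [2, 2, 0, 1, 0], [0, 2, 0, 1, 2], [3, 3, 0, 0, 3]]) (w := [0, 0, 0, 1, 1])
    (by decide +kernel)

end Cfsg.Agent.H7
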